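import Cfsg.Agent.H0.TC
set_option maxRecDepth 100000
namespace H0.TCJ2p2
open H0
noncomputable def r0 : TC.WTr := (.node (.node (.node (.node (.node (.node (.leaf [1] 0 0 false) (.leaf [1, 5, 2, 0, 3] 13 3 false)) (.leaf [2, 2, 2] 8 0 false)) (.node (.node (.leaf [2, 1, 4, 2] 9 2 true) (.leaf [2, 0, 3, 4, 1] 13 5 false)) (.leaf [1, 4, 1, 1, 4] 14 0 false))) (.node (.node (.node (.leaf [5, 2, 1, 3, 4] 13 1 true) (.leaf [0, 0, 5, 0, 2] 14 0 true)) (.leaf [3] 2 0 false)) (.node (.leaf [1, 4, 3, 1, 4] 14 3 false) (.leaf [5] 4 0 false)))) (.node (.node (.node (.node (.leaf [3, 5, 0, 3] 9 2 false) (.leaf [2, 1, 2, 1] 9 0 true)) (.leaf [5, 0, 0, 5, 0] 14 5 true)) (.node (.leaf [5, 2, 0, 3, 4] 13 4 false) (.leaf [3, 3, 3] 8 0 true))) (.node (.node (.node (.leaf [1] 0 0 false) (.leaf [5, 5] 6 0 true)) (.leaf [4, 1, 5, 2, 0] 13 2 false)) (.node (.leaf [3] 2 0 false) (.leaf [4, 4] 6 0 false))))) (.node (.node (.node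 (.node (.node (.leaf [0, 0, 0] 7 0 false) (.leaf [0, 5, 2, 1, 3] 13 0 true)) (.leaf [1, 4, 2, 1] 9 3 true)) (.node (.node (.leaf [4, 2, 1, 2] 9 4 true) (.leaf [2, 1, 3, 4, 0] 13 2 true)) (.leaf [0, 3, 5, 0] 9 1 false))) (.node (.node (.node (.leaf [5, 0, 2, 5, 0] 14 2 true) (.leaf [0, 3, 0, 3] 9 4 false)) (.leaf [2] 2 1 false)) (.node (.leaf [4, 1, 1, 4, 3] 14 1 false) (.leaf [1, 1, 4, 3, 1] 14 2 false)))) (.node (.node (.node (.node (.leaf [3, 0, 3, 5] 9 0 false) (.leaf [4] 4 1 false)) (.leaf [3] 2 0 false)) (.node (.leaf [1, 1, 1] 7 0 true) (.leaf [2] 2 1 false))) (.node (.node (.node (.leaf [0] 0 1 false) (.leaf [0, 2, 5, 0, 0] 14 3 true)) (.leaf [5, 0, 3, 0] 9 3 false)) (.node (.leaf [0, 3, 4, 1, 5] 13 0 false) (.leaf [3, 1, 4, 1, 1] 14 5 false))))))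
noncomputable def tS : Tr := (.leaf (nat_lit 0xffd589c8d4af84c747ffa7a7eb7e533e84bffd5a12a766c6378c3ff9723c1288b7ca33ffdfb86db023049457ff4a97d6d4482b51effdf9764486d5716b3ff6c97f75d2935848ffe177ddae7e046877ff458f61165d23cf8ffc74091997693b1abff0909564cff4b8a7ffce61967e5d21c093ff97dd81b1700921cffc7008ddd515ff667ff08c91549db97586ffd2e42c23190a82dbff42d4f1a5d708d54ffc6c088c621ccb36bff0888d2ec926647fffcef4b8bc0887e3b7ff1f55a0887c254e9ffc68085182390a1efff084891e8791e0cfffc8729cad084d418fff214d3084ad6c077ffc93299711d82118bff1545423c0014c52ffc511400013c8713bff1344c12c4a21400ffc491204711800117ff000000902308821))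
noncomputable def tJ : Tr := (.leaf (nat_lit 0x106044d10006034a403b01033001b220104044c120205d603005d0100050504d100440b430039110403a300350a000340001034a102020a0403b010050b030033030b220104010b04038011050800050205008003000800540393000509000002020090230129200100000912000080030008000000000081000008000770000))
noncomputable def tQ : Tr := (.leaf (nat_lit 0x0))
noncomputable def tR : TC.WTr := r0
def hl : List ℕ := [4, 5, 5, 4]
def B : List (List ℕ) := [[0, 1], [1, 0], [2, 3], [3, 2], [4, 5], [5, 4], [4, 4, 4], [0, 0, 0, 0], [2, 2, 2, 2], [0, 3, 0, 3, 5], [0, 2, 0, 2, 0, 2, 0, 2, 0, 2, 0, 2, 0, 2, 0, 2, 0, 2, 0, 2, 0, 2, 0, 2], [0, 2, 1, 3, 0, 2, 1, 3, 0, 2, 1, 3, 0, 2, 1, 3, 0, 2, 1, 3, 0, 2, 1, 3], [0, 3, 0, 3, 0, 3, 0, 3, 0, 3, 0, 3], [2, 0, 3, 4, 1, 5], [3, 1, 4, 1, 1, 4]]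
def subs : List (List ℕ) := [[4], [5]]
def ex : List (List ℕ) := []
def inv (x : ℕ) : ℕ := [1, 0, 3, 2, 5, 4].getD x 0
noncomputable def rS : ℕ → ℕ := rowOf tS (nat_lit 8) (nat_lit 255) (nat_lit 70) (nat_lit 1180591620717411303423)
noncomputable def rJ : ℕ → ℕ := rowOf tJ (nat_lit 8) (nat_lit 255) (nat_lit 32) (nat_lit 4294967295)
noncomputable def C : TC.Cfg where
  S := look rS (nat_lit 10) (nat_lit 1023)
  J := look rJ (nat_lit 4) (nat_lit 15)
  Q := lookQ tQ (nat_lit 8) (nat_lit 1) (nat_lit 1)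
  R := tR.get
  hl := fun x => hl.contains x
  n := (nat_lit 32)
  M := (nat_lit 32)
  top := (nat_lit 736)
  nl := (nat_lit 6)
  need := (nat_lit 6)
  nr := (nat_lit 7)
theorem k0 : TC.chkRange C 0 1 = true := by decide +kernel
theorem rows0 : ∀ c < (0 + 1) * 64, c < C.M → TC.chkRow C c = true :=
  TC.rows_step (TC.rows_zero C) k0
theorem main {G : Type*} [Group G] (g : ℕ → G) (hB : ∀ r ∈ B, ev g r = 1) (H : Subgroup G)
    (hH : ∀ w ∈ subs, ev g w ∈ H) :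
    H.relIndex (Subgroup.closure (g '' {x | x < 6})) ≠ 0 ∧
      H.relIndex (Subgroup.closure (g '' {x | x < 6})) ≤ 32 :=
  TC.index_le C B subs ex inv hl tR.hint rfl (by decide +kernel) (by decide +kernel)
    (TC.rows_done rows0 (by decide +kernel)) g hB H hH
end H0.TCJ2p2
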